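import Cfsg.Agent.Spor.HeP2.D0

set_option autoImplicit false
set_option maxRecDepth 100000000
set_option Elab.async false

namespace Cfsg.Agent.Spor.HeP2

theorem ok0 : Net.okb 1 n0 = true := by decide +kernel

theorem ok1 : Net.okb 1 n1 = true := by decide +kernel

theorem ok2 : Net.okb 1 n2 = true := by decide +kernel

theorem ok3 : Net.okb 1 n3 = true := by decide +kernel

theorem ok4 : Net.okb 1 n4 = true := by decide +kernel

theorem ok5 : Net.okb 1 n5 = true := by decide +kernel

theorem ok6 : Net.okb 1 n6 = true := by decide +kernel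

theorem rel0 : T.rel 1 [1, 1] 0 1 = true := by decide +kernel

theorem rel1 : T.rel 1 [2, 2] 0 1 = true := by decide +kernel

theorem rel2 : T.rel 1 [3, 3] 0 1 = true := by decide +kernel

theorem rel3 : T.rel 1 [4, 4] 0 1 = true := by decide +kernel

theorem rel4 : T.rel 1 [5, 5] 0 1 = true := by decide +kernel

theorem rel5 : T.rel 1 [6, 6] 0 1 = true := by decide +kernel

theorem rel6 : T.rel 1 [7, 2, 3, 2] 0 1 = true := by decide +kernel

theorem rel7 : T.rel 1 [2, 1, 2, 1] 0 1 = true := by decide +kernel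

theorem rel8 : T.rel 1 [3, 1, 3, 1] 0 1 = true := by decide +kernel

theorem rel9 : T.rel 1 [4, 1, 4, 1] 0 1 = true := by decide +kernel

theorem rel10 : T.rel 1 [5, 1, 5, 1] 0 1 = true := by decide +kernel

theorem rel11 : T.rel 1 [6, 1, 6, 1] 0 1 = true := by decide +kernel

theorem rel12 : T.rel 1 [3, 2, 3, 2, 3, 2, 3, 2, 3, 2, 3, 2, 3, 2, 3, 2, 3, 2, 3, 2] 0 1 = true := by decide +kernel

theorem rel13 : T.rel 1 [4, 2, 4, 2] 0 1 = true := by decide +kernel

theorem rel14 : T.rel 1 [5, 2, 5, 2] 0 1 = true := by decide +kernel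

theorem rel15 : T.rel 1 [6, 2, 6, 2] 0 1 = true := by decide +kernel

theorem rel16 : T.rel 1 [4, 3, 4, 3, 4, 3] 0 1 = true := by decide +kernel

theorem rel17 : T.rel 1 [5, 3, 5, 3, 5, 3] 0 1 = true := by decide +kernel

theorem rel18 : T.rel 1 [6, 3, 6, 3, 6, 3] 0 1 = true := by decide +kernel

theorem rel19 : T.rel 1 [5, 4, 5, 4] 0 1 = true := by decide +kernel

theorem rel20 : T.rel 1 [6, 4, 6, 4] 0 1 = true := by decide +kernel

theorem rel21 : T.rel 1 [6, 5, 6, 5, 6, 5, 6, 5] 0 1 = true := by decide +kernel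

theorem rel22 : T.rel 1 [5, 6, 5, 6, 4] 0 1 = true := by decide +kernel

theorem rel23 : T.rel 1 [2, 3, 2, 3, 2, 3, 2, 3, 2, 3, 1] 0 1 = true := by decide +kernel

theorem rel24 : T.rel 1 [6, 5, 3, 2, 6, 5, 3, 2, 6, 5, 3, 2, 6, 5, 3, 2] 0 1 = true := by decide +kernel

theorem hcov : T.treeCov (ones 2) L 1 = true := by decide +kernel

theorem hg : lall (fun z => band (memL L z) (band (sub (ones 2) (T.let z).cl) (T.closed (ones 2) z))) gs = true := by decide +kernel

theorem hivk : ivOk (2 * 6) EX IV = true := by decide +kernel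

theorem hrt : RT.ok (2 * 6) EX RL = true := by decide +kernel

theorem hdefs : defs F 2 = true := by decide +kernel

noncomputable def st0_l : List Nat := [nat_lit 0x3ff, nat_lit 0x3ff, nat_lit 0x20000380000c03, nat_lit 0x8000010000100000600008000010000100000600008000010000040b, nat_lit 0x180002c02]
theorem st0 : band (steps F IV RT base st0_l 2) (Nat.beq (Nat.add 2 (llen st0_l)) 7) = true := by decide +kernel

theorem rot1_1 : T.rot 1 [1] (sel (ones 2) ip1 1) = true := by decide +kernel

theorem rot1_1r : band (Rule.ok (2 * 6) EX RL ⟨1 :: [1], [], 18, false⟩) (lall (memL L) [1]) = true := by decide +kernel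

theorem cov1 : T.cover 1 [(sel (ones 2) ip1 1)] = true := by decide +kernel

theorem tl1 : T.treeLt 1 1 = true := by decide +kernel

theorem rot2_1 : T.rot 2 [2] (sel (ones 2) ip2 1) = true := by decide +kernel

theorem rot2_1r : band (Rule.ok (2 * 6) EX RL ⟨2 :: [2], [], 18, false⟩) (lall (memL L) [2]) = true := by decide +kernel

theorem ep0a : T.treePath [] (Nat.shiftLeft 1 0) 1 = true := by decide +kernel

theorem ep0b : T.treePath [1] (Nat.shiftLeft 1 1) 1 = true := by decide +kernel

theorem ep0c : band (lall (fun z => Nat.ble z 255) ([] ++ 2 :: [1])) (concl F IV 7 0x80003002 (encA ([] ++ 2 :: [1]) 0)) = true := by decide +kernel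

theorem ep0d : band (Rule.ok (2 * 6) EX [] ⟨lapp [1] [1], [], 0, false⟩) (band (lall (memL L) []) (lall (memL L) [1])) = true := by decide +kernel

theorem cov2 : T.cover 2 [(sel (ones 2) ip2 1), (Nat.shiftLeft 1 0)] = true := by decide +kernel

theorem tl2 : Nat.beq (T.let 2).tt 0 = true := by decide +kernel

theorem rot3_1 : T.rot 3 [1, 3, 1] (sel (ones 2) ip3 1) = true := by decide +kernel

theorem rot3_1r : band (Rule.ok (2 * 6) EX RL ⟨3 :: [1, 3, 1], [], 1, true⟩) (lall (memL L) [1, 3, 1]) = true := by decide +kernel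

theorem cov3 : T.cover 3 [(sel (ones 2) ip3 1), 1] = true := by decide +kernel

theorem tl3 : Nat.beq (T.let 3).tt 0 = true := by decide +kernel

theorem rot4_1 : T.rot 4 [1, 4, 1] (sel (ones 2) ip4 1) = true := by decide +kernel

theorem rot4_1r : band (Rule.ok (2 * 6) EX RL ⟨4 :: [1, 4, 1], [], 2, true⟩) (lall (memL L) [1, 4, 1]) = true := by decide +kernel

theorem cov4 : T.cover 4 [(sel (ones 2) ip4 1), 1] = true := by decide +kernel

theorem tl4 : Nat.beq (T.let 4).tt 0 = true := by decide +kernel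

theorem rot5_1 : T.rot 5 [1, 5, 1] (sel (ones 2) ip5 1) = true := by decide +kernel

theorem rot5_1r : band (Rule.ok (2 * 6) EX RL ⟨5 :: [1, 5, 1], [], 3, true⟩) (lall (memL L) [1, 5, 1]) = true := by decide +kernel

theorem cov5 : T.cover 5 [(sel (ones 2) ip5 1), 1] = true := by decide +kernel

theorem tl5 : Nat.beq (T.let 5).tt 0 = true := by decide +kernel

theorem rot6_1 : T.rot 6 [1, 6, 1] (sel (ones 2) ip6 1) = true := by decide +kernel

theorem rot6_1r : band (Rule.ok (2 * 6) EX RL ⟨6 :: [1, 6, 1], [], 4, true⟩) (lall (memL L) [1, 6, 1]) = true := by decide +kernel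

theorem cov6 : T.cover 6 [(sel (ones 2) ip6 1), 1] = true := by decide +kernel

theorem tl6 : Nat.beq (T.let 6).tt 0 = true := by decide +kernel

theorem cov7 : T.cover 7 [] = true := by decide +kernel

theorem tl7 : Nat.beq (T.let 7).tt 0 = true := by decide +kernel

theorem cov8 : T.cover 8 [] = true := by decide +kernel

theorem tl8 : Nat.beq (T.let 8).tt 0 = true := by decide +kernel

end Cfsg.Agent.Spor.HeP2
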