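import Cfsg.Agent.Spor.Chk

set_option autoImplicit false
set_option maxRecDepth 100000000
set_option Elab.async false
noncomputable section

namespace Cfsg.Agent.Spor.HeP2

def m0_0 : Nat := nat_lit 0x1
def n0 : Net := Net.cons 1 m0_0 (Net.nil)

def m1_0 : Nat := nat_lit 0x1
def n1 : Net := Net.cons 1 m1_0 (Net.nil)

def n2 : Net := Net.nil

def n3 : Net := Net.nil

def n4 : Net := Net.nil

def n5 : Net := Net.nil

def n6 : Net := Net.nil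

def ip1 : List Nat := [0x2]
def l1 : Let := ⟨0, false, 0x3, 0x2, [0x2, 0x0]⟩

def ip2 : List Nat := [0x2]
def l2 : Let := ⟨1, false, 0x3, 0x0, [0x2, 0x0]⟩

def ip3 : List Nat := [0x2]
def l3 : Let := ⟨2, false, 0x3, 0x0, [0x0, 0x2]⟩

def ip4 : List Nat := [0x2]
def l4 : Let := ⟨3, false, 0x3, 0x0, [0x0, 0x2]⟩

def ip5 : List Nat := [0x2]
def l5 : Let := ⟨4, false, 0x3, 0x0, [0x0, 0x2]⟩

def ip6 : List Nat := [0x2]
def l6 : Let := ⟨5, false, 0x3, 0x0, [0x0, 0x2]⟩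

def ip7 : List Nat := []
def l7 : Let := ⟨6, false, 0x0, 0x0, [0x0, 0x0]⟩

def ip8 : List Nat := []
def l8 : Let := ⟨6, true, 0x0, 0x0, [0x0, 0x0]⟩

def F : Nat := nat_lit 0x10200000000010000002000020300002000000700000000000300000000020200000000010100000

def RT : RTree := RTree.node 0x3020802 ⟨[3, 2, 8, 2], [], 18, false⟩ (RTree.node 0x202 ⟨[2, 2], [], 18, false⟩ (RTree.leaf) (RTree.leaf)) (RTree.node 0x102030203020302030203 ⟨[1, 2, 3, 2, 3, 2, 3, 2, 3, 2, 3], [0], 16, true⟩ (RTree.leaf) (RTree.leaf))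

def NT : List Net := [n0, n1, n2, n3, n4, n5, n6]
def LT : List Let := [⟨0, false, 0, 0, []⟩, l1, l2, l3, l4, l5, l6, l7, l8]
def T : Tab := ⟨NT, LT⟩
def EX : List (List Nat) := [[], [0], [2], [4], [6], [8], [10], [2, 4, 2], [2, 4, 2]]
def RL : List (List Nat) := [[0, 2, 0, 2], [0, 4, 0, 4], [0, 6, 0, 6], [0, 8, 0, 8], [0, 10, 0, 10], [2, 4, 2, 4, 2, 4, 2, 4, 2, 4, 2, 4, 2, 4, 2, 4, 2, 4, 2, 4], [2, 6, 2, 6], [2, 8, 2, 8], [2, 10, 2, 10], [4, 6, 4, 6, 4, 6], [4, 8, 4, 8, 4, 8], [4, 10, 4, 10, 4, 10], [6, 8, 6, 8], [6, 10, 6, 10], [8, 10, 8, 10, 8, 10, 8, 10], [6, 10, 8, 10, 8], [0, 4, 2, 4, 2, 4, 2, 4, 2, 4, 2], [2, 4, 8, 10, 2, 4, 8, 10, 2, 4, 8, 10, 2, 4, 8, 10]]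
def XL : List (List Nat) := []
def BW : List (List Nat) := [[4], [6], [8], [10], [2, 4, 2]]
def IV : Nat := 0x70806050403020100
def L : List Nat := [1, 2, 3, 4, 5, 6, 7, 8]
def gs : List Nat := [1, 2, 3, 4, 5, 6]
def base : List Nat := [3, 4, 5, 6, 7]

end Cfsg.Agent.Spor.HeP2
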